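import Groth.Prelude.Def_BigSite
import Groth.Agent.EtSite.PushFinite
import Mathlib.AlgebraicGeometry.Morphisms.QuasiFinite
import Mathlib.AlgebraicGeometry.Fiber

/-!
Condition (A) for integral morphisms and for separated locally quasi-finite morphisms; consequences
for the direct image functor.
-/

set_option autoImplicit false
set_option linter.style.haveILetI false
set_option backward.isDefEq.respectTransparency.types false

universe u

open CategoryTheory CategoryTheory.Limits AlgebraicGeometry Opposite Groth.Agent.Weighting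

namespace Groth.Agent.PropA

/-- Points of a fibre of an integral morphism do not specialize to one another. -/
theorem eq_of_specializes_fibre {X Y : Scheme.{u}} (f : X ⟶ Y) [IsIntegralHom f] {x z : X}
    (h : x ⤳ z) (hf : f x = f z) : x = z := by
  let y := f z
  obtain ⟨x', hx'⟩ : x ∈ Set.range (f.fiberι y) := by rw [Scheme.Hom.range_fiberι]; exact hf
  obtain ⟨z', hz'⟩ : z ∈ Set.range (f.fiberι y) := by rw [Scheme.Hom.range_fiberι]; exact rfl
  have h' : x' ⤳ z' := by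
    rw [← (f.fiberι y).isEmbedding.isInducing.specializes_iff, hx', hz']
    exact h
  suffices x' = z' by rw [← hx', this, hz']
  let q : f.fiber y ⟶ Spec (Y.residueField y) := f.fiberToSpecResidueField y
  haveI : IsIntegralHom q := inferInstanceAs (IsIntegralHom (pullback.snd _ _))
  haveI : IsAffine (f.fiber y) := isAffine_of_isAffineHom q
  let ψ : Y.residueField y ⟶ Γ(f.fiber y, ⊤) := Spec.preimage ((f.fiber y).isoSpec.inv ≫ q)
  have hψ : Spec.map ψ = (f.fiber y).isoSpec.inv ≫ q := Spec.map_preimage _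
  have hint : ψ.hom.IsIntegral := (IsIntegralHom.SpecMap_iff).1 (hψ ▸ inferInstance)
  algebraize [ψ.hom]
  haveI : Algebra.IsIntegral (Y.residueField y) Γ(f.fiber y, ⊤) := algebraMap_isIntegral_iff.1 hint
  have hclosed : IsClosed ({(f.fiber y).isoSpec.hom x'} : Set (Spec Γ(f.fiber y, ⊤))) := by
    refine (PrimeSpectrum.isClosed_singleton_iff_isMaximal _).2 ?_
    refine Ideal.isMaximal_of_isIntegral_of_isMaximal_comap (R := Y.residueField y) _ ?_
    exact (Ideal.isMaximal_def.2 ⟨Ideal.IsPrime.ne_top inferInstance,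
      fun J hJ => (Ideal.eq_bot_or_top J).resolve_left fun hb => by simp [hb] at hJ⟩)
  have h'' := h'.map (f.fiber y).isoSpec.hom.continuous
  have e := h''.mem_closed hclosed (Set.mem_singleton _)
  exact ((f.fiber y).isoSpec.hom.homeomorph.injective (Set.mem_singleton_iff.1 e)).symm

/-- An étale neighbourhood shrinks so that its fibre over a point is a single point. -/
theorem exists_open_singleton_fibre {U X : Scheme.{u}} (g : U ⟶ X) [LocallyQuasiFinite g] (u : U) :
    ∃ N : U.Opens, u ∈ N ∧ ∀ w ∈ N, g w = g u → w = u := by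
  haveI := (g.isDiscrete_preimage_singleton (g u)).to_subtype
  obtain ⟨N, hN, hNu⟩ := isOpen_induced_iff.1
    (isOpen_discrete ({⟨u, rfl⟩} : Set (g ⁻¹' {g u})))
  refine ⟨⟨N, hN⟩, ?_, fun w hw hwu => ?_⟩
  · have : (⟨u, rfl⟩ : g ⁻¹' {g u}) ∈ Subtype.val ⁻¹' N := by rw [hNu]; rfl
    exact this
  · have : (⟨w, hwu⟩ : g ⁻¹' {g u}) ∈ Subtype.val ⁻¹' N := hw
    rw [hNu] at this
    exact congrArg Subtype.val this

/-- Integral morphisms satisfy condition (A). -/
theorem propA_of_isIntegralHom {X Y : Scheme.{u}} (f : X ⟶ Y) [IsIntegralHom f] :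
    BigSite.PropA f := by
  intro U g _ u
  obtain ⟨N, huN, hN⟩ := exists_open_singleton_fibre g u
  let gN : (N : Scheme.{u}) ⟶ X := N.ι ≫ g
  let C : Set X := closure {g u}
  let Z : Set X := C \ Set.range gN
  have hZ : IsClosed Z := isClosed_closure.sdiff gN.isOpenMap.isOpen_range
  let O : Y.Opens := ⟨(f '' Z)ᶜ, (f.isClosedMap _ hZ).isOpen_compl⟩
  have hyO : f (g u) ∈ O := by
    rintro ⟨z, ⟨hzC, hzN⟩, hzy⟩
    obtain rfl := eq_of_specializes_fibre f (specializes_iff_mem_closure.2 hzC) hzy.symm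
    exact hzN ⟨⟨u, huN⟩, rfl⟩
  let Ω := AlgebraicClosure (Y.residueField (f (g u)))
  let γ : Spec (CommRingCat.of Ω) ⟶ Y := Weighting.geoPt Y (f (g u))
  have hγ : pt γ = f (g u) := Weighting.pt_geoPt Y _
  have hr : Set.range γ ⊆ Set.range O.ι := by
    rw [range_eq_pt, Scheme.Opens.range_ι, Set.singleton_subset_iff, hγ]
    exact hyO
  let γO := IsOpenImmersion.lift O.ι γ hr
  let A : X.Opens := ⟨Cᶜ, isClosed_closure.isOpen_compl⟩
  let src : ULift.{u} Bool → Scheme.{u} := fun b => bif b.down then (N : Scheme.{u}) else A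
  let fam : ∀ b, src b ⟶ X := fun b => match b with
    | ⟨true⟩ => gN
    | ⟨false⟩ => A.ι
  let fam' : ∀ b, pullback (fam b) (pullback.fst f O.ι) ⟶ pullback f O.ι := fun b => pullback.snd _ _
  have hfam : ∀ b, Etale (fam' b) := fun b => MorphismProperty.pullback_snd _ _ (match b with
    | ⟨true⟩ => (inferInstance : Etale gN)
    | ⟨false⟩ => (inferInstance : Etale A.ι))
  obtain ⟨V, v, hv, γ', hγ', hsp⟩ := EtSite.exists_integral_split (pullback.snd f O.ι) γO fam' hfam
    (fun x => by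
      have hx : ∃ b, pullback.fst f O.ι x ∈ Set.range (fam b) := by
        by_cases hC : pullback.fst f O.ι x ∈ C
        · refine ⟨⟨true⟩, by_contra fun hN' => ?_⟩
          have : f (pullback.fst f O.ι x) ∈ O := by
            rw [← Scheme.Hom.comp_apply, pullback.condition, Scheme.Hom.comp_apply]
            exact (pullback.snd f O.ι x).2
          exact this ⟨_, ⟨hC, hN'⟩, rfl⟩
        · exact ⟨⟨false⟩, ⟨_, hC⟩, rfl⟩
      obtain ⟨b, z, hz⟩ := hx
      obtain ⟨w, -, hw⟩ := Scheme.Pullback.exists_preimage_pullback z x hz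
      exact ⟨b, w, hw⟩)
  have h1 := hsp.of_refinement (g := fam) (pullback.fst f O.ι) id (fun b => pullback.fst _ _)
    (fun b => pullback.condition)
  have h2 := h1.precomp (pullbackLeftPullbackSndIso f O.ι v).inv
  rw [pullbackLeftPullbackSndIso_inv_fst] at h2
  obtain ⟨μ, W, hd, ht, hW⟩ := h2
  have hpt : f (g u) = (v ≫ O.ι) (pt γ') := by
    rw [← pt_comp, reassoc_of% hγ', IsOpenImmersion.lift_fac, hγ]
  obtain ⟨p, hp, -⟩ := Scheme.Pullback.exists_preimage_pullback (f := f) (g := v ≫ O.ι) (g u) (pt γ') hpt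
  obtain ⟨a, ha⟩ := TopologicalSpace.Opens.mem_iSup.1
    (show p ∈ ⨆ a, W a by rw [ht]; trivial)
  refine ⟨V, v ≫ O.ι, inferInstance, W a, ?_, ?_⟩
  · rw [← isOpen_compl_iff]
    have e : (W a : Set ↑(pullback f (v ≫ O.ι)))ᶜ =
        ⋃ (b) (_ : b ≠ a), (W b : Set ↑(pullback f (v ≫ O.ι))) := by
      ext q
      simp only [Set.mem_compl_iff, Set.mem_iUnion, SetLike.mem_coe, exists_prop]
      constructor
      · intro hq
        obtain ⟨b, hb⟩ := TopologicalSpace.Opens.mem_iSup.1 (show q ∈ ⨆ a, W a by rw [ht]; trivial)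
        exact ⟨b, fun hba => hq (hba ▸ hb), hb⟩
      · rintro ⟨b, hba, hb⟩ hq
        exact (disjoint_iff_inf_le.1 (hd b a hba) (x := q) ⟨hb, hq⟩).elim
    rw [e]
    exact isOpen_iUnion fun b => isOpen_iUnion fun _ => (W b).2
  obtain ⟨⟨_ | _⟩, h, hh⟩ := hW a
  · exfalso
    have e : A.ι (h ⟨p, ha⟩) = g u := by
      rw [← Scheme.Hom.comp_apply]
      exact (congrArg (fun m => m ⟨p, ha⟩) hh).trans hp
    exact ((h ⟨p, ha⟩).2) (subset_closure e)
  · refine ⟨h ≫ N.ι, (Category.assoc _ _ _).trans hh, ⟨p, ha⟩, ?_⟩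
    have e : g (N.ι (h ⟨p, ha⟩)) = g u := by
      rw [← Scheme.Hom.comp_apply]
      change gN _ = _
      rw [← Scheme.Hom.comp_apply]
      exact (congrArg (fun m => m ⟨p, ha⟩) hh).trans hp
    exact hN _ (h ⟨p, ha⟩).2 e

/-- Separated locally quasi-finite morphisms satisfy condition (A). -/
theorem propA_of_locallyQuasiFinite {X Y : Scheme.{u}} (f : X ⟶ Y) [IsSeparated f]
    [LocallyQuasiFinite f] [LocallyOfFiniteType f] : BigSite.PropA f := by
  intro U g _ u
  let Ω := AlgebraicClosure (U.residueField u)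
  let χ : Spec (CommRingCat.of Ω) ⟶ U := Weighting.geoPt U u
  have hχ : pt χ = u := Weighting.pt_geoPt U u
  obtain ⟨V, v, hv, γ', W₀, _, hγ', hlift⟩ := exists_isolating (g ≫ f) (χ ≫ g ≫ f) χ rfl
  obtain ⟨φ₀, ⟨hφ₀, hφW⟩, hφfst⟩ : χ ∈ lifts (g ≫ f) v W₀ γ' := by rw [hlift]; rfl
  -- the étale, finite map to `X ×_Y V`
  let m : pullback (g ≫ f) v ⟶ pullback f v :=
    pullback.map (g ≫ f) v f v g (𝟙 _) (𝟙 _) (by simp) (by simp)
  have hm : Etale m := by
    have sq : IsPullback (pullback.fst (g ≫ f) v) m g (pullback.fst f v) := by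
      refine IsPullback.of_bot (v₂₁ := pullback.snd f v) (v₂₂ := f) (h₃₁ := v) ?_
        (pullback.lift_fst _ _ _).symm (IsPullback.of_hasPullback f v)
      have e : m ≫ pullback.snd f v = pullback.snd (g ≫ f) v :=
        (pullback.lift_snd _ _ _).trans (Category.comp_id _)
      rw [e]
      exact IsPullback.of_hasPullback (g ≫ f) v
    exact MorphismProperty.of_isPullback sq inferInstance
  let e₀ : (W₀ : Scheme.{u}) ⟶ pullback f v := W₀.ι ≫ m
  have he₀ : e₀ ≫ pullback.snd f v = W₀.ι ≫ pullback.snd (g ≫ f) v := by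
    rw [Category.assoc]
    exact congrArg (fun t => W₀.ι ≫ t) ((pullback.lift_snd _ _ _).trans (Category.comp_id _))
  haveI : Etale e₀ := inferInstanceAs (Etale (W₀.ι ≫ m))
  haveI : IsFinite (e₀ ≫ pullback.snd f v) := he₀ ▸ inferInstance
  haveI : IsFinite e₀ := IsFinite.of_comp e₀ (pullback.snd f v)
  -- off-diagonal part
  let P := pullback e₀ e₀
  let δ : (W₀ : Scheme.{u}) ⟶ P := pullback.diagonal e₀
  haveI : IsOpenImmersion δ := inferInstanceAs (IsOpenImmersion (pullback.diagonal e₀))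
  let π : P ⟶ pullback f v := pullback.fst e₀ e₀ ≫ e₀
  haveI : Etale π := inferInstanceAs (Etale (pullback.fst e₀ e₀ ≫ e₀))
  haveI : IsFinite π := inferInstanceAs (IsFinite (pullback.fst e₀ e₀ ≫ e₀))
  haveI : IsClosedImmersion δ := IsSeparated.isClosedImmersion_diagonal
  let B : Set ↑(pullback f v) := π '' (Set.range δ)ᶜ
  have hBo : IsOpen B := π.isOpenMap _ δ.isClosedEmbedding.isClosed_range.isOpen_compl
  have hBc : IsClosed B := π.isClosedMap _ δ.isOpenEmbedding.isOpen_range.isClosed_compl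
  let WX : (pullback f v).Opens :=
    ⟨Set.range e₀ \ B, IsOpen.sdiff e₀.isOpenMap.isOpen_range hBc⟩
  have hWc : IsClosed (WX : Set ↑(pullback f v)) :=
    (e₀.isClosedMap.isClosed_range).sdiff hBo
  -- the distinguished point
  have hrange : Set.range φ₀ ⊆ Set.range W₀.ι := by
    rw [range_eq_pt, Scheme.Opens.range_ι, Set.singleton_subset_iff]; exact hφW
  let ψ := IsOpenImmersion.lift W₀.ι φ₀ hrange
  have hψ : ψ ≫ W₀.ι = φ₀ := IsOpenImmersion.lift_fac _ _ _
  have hψuniq : ∀ ψ' : Spec (CommRingCat.of Ω) ⟶ W₀,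
      ψ' ≫ e₀ ≫ pullback.snd f v = γ' → ψ' = ψ := by
    intro ψ' h'
    have h1 : (ψ' ≫ W₀.ι) ≫ pullback.snd (g ≫ f) v = γ' := by
      rw [Category.assoc, ← he₀]; exact h'
    have h2 : (ψ' ≫ W₀.ι) ≫ pullback.fst (g ≫ f) v ∈ lifts (g ≫ f) v W₀ γ' :=
      ⟨ψ' ≫ W₀.ι, ⟨h1, by rw [pt_comp]; exact (pt ψ' : (W₀ : Scheme.{u})).2⟩, rfl⟩
    rw [hlift, Set.mem_singleton_iff] at h2
    rw [← cancel_mono W₀.ι, hψ]
    exact pullback.hom_ext (h2.trans hφfst.symm) (h1.trans hφ₀.symm)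
  have hψγ : ψ ≫ e₀ ≫ pullback.snd f v = γ' := by
    rw [he₀, reassoc_of% hψ]; exact hφ₀
  have hnotB : e₀ (pt ψ) ∉ B := by
    rintro ⟨r, hr, hrx⟩
    obtain ⟨ρ, hρ, hρr⟩ := EtSite.exists_lift_of_isIntegralHom π (ψ ≫ e₀) r
      (by rw [pt_comp]; exact hrx)
    have h1 : ρ ≫ pullback.fst e₀ e₀ ≫ e₀ = ψ ≫ e₀ := hρ
    have a1 : ρ ≫ pullback.fst e₀ e₀ = ψ := hψuniq _ (by
      rw [Category.assoc, reassoc_of% h1]; exact hψγ)
    have a2 : ρ ≫ pullback.snd e₀ e₀ = ψ := hψuniq _ (by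
      rw [Category.assoc, ← pullback.condition_assoc, reassoc_of% h1]; exact hψγ)
    have : ρ = ψ ≫ δ := pullback.hom_ext
      (by rw [a1, Category.assoc, pullback.diagonal_fst, Category.comp_id])
      (by rw [a2, Category.assoc, pullback.diagonal_snd, Category.comp_id])
    exact hr ⟨pt ψ, by rw [← hρr, this, pt_comp]⟩
  -- over `WX` the map `e₀` is an isomorphism
  let k : (↑(e₀ ⁻¹ᵁ WX) : Scheme.{u}) ⟶ WX := e₀ ∣_ WX
  haveI : Etale k := IsZariskiLocalAtTarget.restrict (P := @Etale) inferInstance WX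
  haveI : Mono k := by
    refine ⟨fun {T} a b hab => ?_⟩
    let ρ : T ⟶ P := pullback.lift (a ≫ (e₀ ⁻¹ᵁ WX).ι) (b ≫ (e₀ ⁻¹ᵁ WX).ι) (by
      simp only [Category.assoc, ← morphismRestrict_ι]
      rw [← Category.assoc a, ← Category.assoc b]
      exact congrArg (· ≫ WX.ι) hab)
    have hρ : Set.range ρ ⊆ Set.range δ := by
      rintro _ ⟨t, rfl⟩
      by_contra hc
      refine ((e₀ ⁻¹ᵁ WX).ι (a t) |> fun q => (a t).2.2 ⟨ρ t, hc, ?_⟩)
      change π (ρ t) = e₀ ((e₀ ⁻¹ᵁ WX).ι (a t))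
      rw [← Scheme.Hom.comp_apply, ← Scheme.Hom.comp_apply, ← Scheme.Hom.comp_apply]
      exact congrArg (fun j : T ⟶ pullback f v => j t) (pullback.lift_fst_assoc _ _ _ e₀ |>.trans (Category.assoc _ _ _))
    have e : IsOpenImmersion.lift δ ρ hρ ≫ δ = ρ := IsOpenImmersion.lift_fac _ _ _
    rw [← cancel_mono (e₀ ⁻¹ᵁ WX).ι]
    calc a ≫ (e₀ ⁻¹ᵁ WX).ι = ρ ≫ pullback.fst e₀ e₀ := (pullback.lift_fst _ _ _).symm
      _ = IsOpenImmersion.lift δ ρ hρ :=
        ((congrArg (fun j => j ≫ pullback.fst e₀ e₀) e.symm).trans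
          ((Category.assoc _ _ _).trans (congrArg (fun j => IsOpenImmersion.lift δ ρ hρ ≫ j)
            (pullback.diagonal_fst e₀)))).trans (Category.comp_id _)
      _ = ρ ≫ pullback.snd e₀ e₀ :=
        (((congrArg (fun j => j ≫ pullback.snd e₀ e₀) e.symm).trans
          ((Category.assoc _ _ _).trans (congrArg (fun j => IsOpenImmersion.lift δ ρ hρ ≫ j)
            (pullback.diagonal_snd e₀)))).trans (Category.comp_id _)).symm
      _ = b ≫ (e₀ ⁻¹ᵁ WX).ι := pullback.lift_snd _ _ _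
  haveI : IsOpenImmersion k := IsOpenImmersion.of_flat_of_mono k
  haveI : Surjective k := ⟨fun x => by
    obtain ⟨w, hw⟩ := x.2.1
    refine ⟨⟨w, show e₀ w ∈ WX from hw ▸ x.2⟩, ?_⟩
    apply Subtype.ext
    change WX.ι (k _) = _
    rw [← Scheme.Hom.comp_apply, morphismRestrict_ι]
    exact hw⟩
  haveI : IsIso k := (isIso_iff_isOpenImmersion_and_surjective _).2 ⟨inferInstance, inferInstance⟩
  refine ⟨V, v, hv, WX, hWc, inv k ≫ (e₀ ⁻¹ᵁ WX).ι ≫ W₀.ι ≫ pullback.fst (g ≫ f) v, ?_, ?_⟩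
  · have e : k ≫ WX.ι ≫ pullback.fst f v =
        (e₀ ⁻¹ᵁ WX).ι ≫ W₀.ι ≫ pullback.fst (g ≫ f) v ≫ g := by
      rw [morphismRestrict_ι_assoc, Category.assoc]
      exact congrArg (fun t => (e₀ ⁻¹ᵁ WX).ι ≫ W₀.ι ≫ t) (pullback.lift_fst _ _ _)
    rw [Category.assoc, Category.assoc, Category.assoc, ← e, IsIso.inv_hom_id_assoc]
  · let w : ↥(e₀ ⁻¹ᵁ WX) := ⟨pt ψ, ⟨⟨_, rfl⟩, hnotB⟩⟩
    refine ⟨k w, ?_⟩
    rw [← Scheme.Hom.comp_apply, IsIso.hom_inv_id_assoc, Scheme.Hom.comp_apply,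
      Scheme.Hom.comp_apply]
    change pullback.fst (g ≫ f) v (W₀.ι (pt ψ)) = u
    rw [← pt_comp, hψ, ← pt_comp]
    exact (congrArg pt hφfst).trans hχ

/-- Under (A) the counit `f⁻¹ f_* F ⟶ F` is an epimorphism. -/
theorem epi_counit {X Y : Scheme.{u}} (f : X ⟶ Y) (hA : BigSite.PropA f) (F : EtCoh.Ab X) :
    Epi ((EtCoh.pullPushAdj f).counit.app F) := by
  haveI : Sheaf.IsLocallySurjective ((EtCoh.pullPushAdj f).counit.app F) := by
    refine ⟨fun {U} s => EtSite.mem_smallEtaleTopology_of_points U _ fun p => ?_⟩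
    haveI : Etale U.hom := U.prop
    obtain ⟨V, v, hv, W, hW, h, hh, q, hq⟩ := hA U.left U.hom p
    let V' : Y.Etale := MorphismProperty.Over.mk ⊤ v hv
    let P : X.Etale := (EtCoh.bc f).obj V'
    haveI : Etale (pullback.fst f v) := MorphismProperty.pullback_fst _ _ hv
    let Wc : (pullback f v).Opens := ⟨(W : Set ↑(pullback f v))ᶜ, hW.isOpen_compl⟩
    let sy := pullbackSymmetry v f
    let C : ULift.{u} Bool → X.Etale := fun b => bif b.down
      then MorphismProperty.Over.mk ⊤ (W.ι ≫ pullback.fst f v) (inferInstance : Etale _)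
      else MorphismProperty.Over.mk ⊤ (Wc.ι ≫ pullback.fst f v) (inferInstance : Etale _)
    let c : ∀ b, C b ⟶ P := fun b => match b with
      | ⟨true⟩ => MorphismProperty.Over.homMk (W.ι ≫ sy.inv)
          ((Category.assoc _ _ _).trans (congrArg (fun t => W.ι ≫ t) (pullbackSymmetry_inv_comp_snd v f)))
      | ⟨false⟩ => MorphismProperty.Over.homMk (Wc.ι ≫ sy.inv)
          ((Category.assoc _ _ _).trans (congrArg (fun t => Wc.ι ≫ t) (pullbackSymmetry_inv_comp_snd v f)))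
    let hW' : C ⟨true⟩ ⟶ U := MorphismProperty.Over.homMk h hh
    let z : ∀ b, EtCoh.sect F (C b) := fun b => match b with
      | ⟨true⟩ => F.obj.map hW'.op s
      | ⟨false⟩ => (0 : EtCoh.sect F (C ⟨false⟩))
    have hr : ∀ (O : (pullback f v).Opens),
        Set.range (O.ι ≫ sy.inv) = sy.inv '' (O : Set ↑(pullback f v)) := fun O => by
      rw [Scheme.Hom.comp_base, TopCat.coe_comp, Set.range_comp, Scheme.Opens.range_ι]
    obtain ⟨t, ht⟩ := EtSite.exists_glue_disjoint F (P := P) c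
      (fun b => match b with
        | ⟨true⟩ => (inferInstance : IsOpenImmersion (W.ι ≫ sy.inv))
        | ⟨false⟩ => (inferInstance : IsOpenImmersion (Wc.ι ≫ sy.inv)))
      (fun a b hab => by
        have hd : Disjoint (Set.range (W.ι ≫ sy.inv)) (Set.range (Wc.ι ≫ sy.inv)) := by
          rw [hr, hr]
          exact Set.disjoint_image_of_injective sy.inv.homeomorph.injective disjoint_compl_right
        obtain ⟨_ | _⟩ := a <;> obtain ⟨_ | _⟩ := b
        · exact (hab rfl).elim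
        · exact hd.symm
        · exact hd
        · exact (hab rfl).elim)
      (fun y => by
        by_cases hy : sy.hom y ∈ W
        · exact ⟨⟨true⟩, (hr W).symm ▸ ⟨_, hy, by rw [← Scheme.Hom.comp_apply, Iso.hom_inv_id]; rfl⟩⟩
        · exact ⟨⟨false⟩, (hr Wc).symm ▸ ⟨_, hy, by rw [← Scheme.Hom.comp_apply, Iso.hom_inv_id]; rfl⟩⟩)
      z
    refine ⟨C ⟨true⟩, hW', q, ?_, hq⟩
    let a := ((EtCoh.pullPushAdj f).unit.app ((EtCoh.push f).obj F)).hom.app (op V') t
    refine ⟨((EtCoh.pull f).obj ((EtCoh.push f).obj F)).obj.map (c ⟨true⟩).op a, ?_⟩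
    have e : ((EtCoh.pullPushAdj f).counit.app F).hom.app (op P) a = t := by
      have := (EtCoh.pullPushAdj f).right_triangle_components F
      exact congrArg (fun m : (EtCoh.push f).obj F ⟶ (EtCoh.push f).obj F => m.hom.app (op V') t) this
    refine (NatTrans.naturality_apply ((EtCoh.pullPushAdj f).counit.app F).hom (c ⟨true⟩).op a).trans ?_
    rw [e]
    exact ht ⟨true⟩
  exact Sheaf.epi_of_isLocallySurjective _

theorem faithful_push {X Y : Scheme.{u}} (f : X ⟶ Y) (hA : BigSite.PropA f) :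
    (EtCoh.push f).Faithful := by
  haveI : ∀ F, Epi ((EtCoh.pullPushAdj f).counit.app F) := epi_counit f hA
  exact (EtCoh.pullPushAdj f).faithful_R_of_epi_counit_app

end Groth.Agent.PropA
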